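import Cfsg.Agent.Lib.AbelianTwoComplement.Real
import Cfsg.Agent.Lib.KazarinSolvable
import Cfsg.Agent.Lib.PLocal.Constrained

/-!
# `A`-groups with a class of the largest possible `2`-power size

If `w` has class size `2^a`, `2^a` maximal, then `w` generates an abelian normal subgroup modulo
`N = O_2(G)`.  When `C(w)` is not solvable it contains a real `p`-element `k` which lies in the
derived group of the group generated by the `p`-elements; then `C(wk) ≤ C(w) ∩ C(k)` modulo `N`,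
and the class of `wk` has larger `2`-part.
-/

namespace CfsgLib.AbTwoCompl

open Cfsg
open scoped commutatorElement

set_option linter.unusedVariables false
set_option linter.unusedSectionVars false
set_option linter.style.haveILetI false

universe u v

variable {G : Type u} [Group G] [Finite G]

/-- All Sylow subgroups are abelian. -/
def AllAb (G : Type u) [Group G] : Prop :=
  ∀ (p : ℕ) [Fact p.Prime] (P : Sylow p G), ∀ a ∈ P, ∀ b ∈ P, a * b = b * a

theorem AllAb.subgroup (h : AllAb G) (K : Subgroup G) : AllAb K := by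
  intro p _ P a ha b hb
  obtain ⟨Q, hQ⟩ := (P.2.map K.subtype).exists_le_sylow
  exact Subtype.ext (h p Q a (hQ ⟨a, ha, rfl⟩) b (hQ ⟨b, hb, rfl⟩))

theorem AllAb.of_surjective (h : AllAb G) {H : Type v} [Group H] [Finite H] (f : G →* H)
    (hf : Function.Surjective f) : AllAb H := by
  intro p _ P
  obtain ⟨Q, rfl⟩ := Sylow.mapSurjective_surjective hf p P
  rintro _ ⟨a, ha, rfl⟩ _ ⟨b, hb, rfl⟩
  rw [← map_mul, h p Q a ha b hb, map_mul]

theorem AllAb.twoAb (h : AllAb G) : TwoAb G := by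
  haveI : Fact (Nat.Prime 2) := ⟨Nat.prime_two⟩
  exact fun P => h 2 P

/-- Transfer: a central `p`-element of the derived group is trivial. -/
theorem eq_one_of_central_commutator {p : ℕ} [Fact p.Prime] (hA : AllAb G) {h : G} {j : ℕ}
    (hp : h ^ p ^ j = 1) (hc : h ∈ Subgroup.center G) (hd : h ∈ commutator G) : h = 1 := by
  have hz : IsPGroup p (Subgroup.zpowers h) := by
    obtain ⟨i, -, hi⟩ := (Nat.dvd_prime_pow Fact.out).1 (orderOf_dvd_of_pow_eq_one hp)
    exact IsPGroup.of_card (n := i) (by rw [Nat.card_zpowers, hi])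
  obtain ⟨P, hP⟩ := hz.exists_le_sylow
  haveI : IsMulCommutative (P : Subgroup G) := ⟨⟨fun a b => Subtype.ext (hA p P a a.2 b b.2)⟩⟩
  open scoped IsMulCommutative in
  let V : G →* (P : Subgroup G) := MonoidHom.transfer (MonoidHom.id (P : Subgroup G))
  have hh : h ∈ (P : Subgroup G) := hP (Subgroup.mem_zpowers h)
  have key : ∀ (k : ℕ) (g₀ : G), g₀⁻¹ * h ^ k * g₀ ∈ (P : Subgroup G) →
      g₀⁻¹ * h ^ k * g₀ = h ^ k := fun k g₀ _ => by
    rw [mul_assoc, ← Subgroup.mem_center_iff.1 (pow_mem hc k) g₀, ← mul_assoc, inv_mul_cancel, one_mul]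
  have hV : (V h : G) = h ^ (P : Subgroup G).index := by
    open scoped IsMulCommutative in
    rw [show V h = _ from MonoidHom.transfer_eq_pow (MonoidHom.id (P : Subgroup G)) h key]
    rfl
  open scoped IsMulCommutative in
  have h1 : V h = 1 := MonoidHom.mem_ker.1 (Abelianization.commutator_subset_ker V hd)
  have h2 : h ^ (P : Subgroup G).index = 1 := by rw [← hV, h1]; rfl
  obtain ⟨i, -, hi⟩ := (Nat.dvd_prime_pow Fact.out).1 (orderOf_dvd_of_pow_eq_one hp)
  have h3 : orderOf h ∣ (P : Subgroup G).index := orderOf_dvd_of_pow_eq_one h2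
  rw [← orderOf_eq_one_iff, hi]
  exact Nat.eq_one_of_dvd_coprimes
    (Nat.Coprime.pow_left i (((Fact.out : p.Prime).coprime_iff_not_dvd).2 P.not_dvd_index))
    dvd_rfl (hi ▸ h3)

theorem card_eq_inf_mul_map (N : Subgroup G) [N.Normal] (C : Subgroup G) :
    Nat.card C = Nat.card (C ⊓ N : Subgroup G) * Nat.card (C.map (QuotientGroup.mk' N)) := by
  set f : C →* G ⧸ N := (QuotientGroup.mk' N).comp C.subtype with hf
  have hr : f.range = C.map (QuotientGroup.mk' N) := by
    rw [hf, MonoidHom.range_comp, Subgroup.range_subtype]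
  have hk : Nat.card f.ker = Nat.card (C ⊓ N : Subgroup G) :=
    Nat.card_congr
      { toFun := fun x => ⟨((x : C) : G), (x : C).2, (QuotientGroup.eq_one_iff _).1 x.2⟩
        invFun := fun x => ⟨⟨x, x.2.1⟩, (QuotientGroup.eq_one_iff _).2 x.2.2⟩
        left_inv := fun x => rfl
        right_inv := fun x => rfl }
  rw [← f.ker.card_mul_index, Subgroup.index_ker, hr, hk]

/-- In `Ḡ`: the centraliser of `w k` lies in those of `w` and `k`. -/
theorem centralizer_mul_le (hA : AllAb G) {p : ℕ} [Fact p.Prime] (B Y : Subgroup G) [B.Normal]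
    [Y.Normal] (hBgen : B = Subgroup.closure {x : G | ∃ n : ℕ, orderOf x = p ^ n})
    (hY : ∀ a ∈ Y, ∀ b ∈ Y, a * b = b * a) {w k : G} (hw : w ∈ Y) (hwk : Commute w k) {n : ℕ}
    (hk : orderOf k = p ^ n) (hkd : k ∈ ⁅B, B⁆) {g : G}
    (hg : g ∈ Subgroup.centralizer ({w * k} : Set G)) : Commute g w ∧ Commute g k := by
  have hp : p.Prime := Fact.out
  have hg' : g * (w * k) * g⁻¹ = w * k := by
    rw [Subgroup.mem_centralizer_singleton_iff.1 hg, mul_inv_cancel_right]
  set w' := g * w * g⁻¹ with hw'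
  have hw'Y : w' ∈ Y := (inferInstance : Y.Normal).conj_mem w hw g
  have hk' : g * k * g⁻¹ = w'⁻¹ * w * k := by
    calc g * k * g⁻¹ = w'⁻¹ * (g * (w * k) * g⁻¹) := by rw [hw']; group
      _ = w'⁻¹ * w * k := by rw [hg']; group
  set h := w'⁻¹ * w with hh
  have hhY : h ∈ Y := mul_mem (inv_mem hw'Y) hw
  have hhB : h ∈ ⁅B, B⁆ := by
    have : h = g * k * g⁻¹ * k⁻¹ := by rw [hk']; group
    rw [this]
    exact mul_mem ((inferInstance : (⁅B, B⁆).Normal).conj_mem k hkd g) (inv_mem hkd)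
  set e := p ^ n with he
  have hhe : h ^ e = 1 := by
    have hke : k ^ e = 1 := orderOf_dvd_iff_pow_eq_one.1 (hk.dvd)
    have h1 : g * w ^ e * g⁻¹ = w ^ e := by
      have h2 : (w * k) ^ e = w ^ e := by rw [hwk.mul_pow, hke, mul_one]
      calc g * w ^ e * g⁻¹ = g * (w * k) ^ e * g⁻¹ := by rw [h2]
        _ = (g * (w * k) * g⁻¹) ^ e := conj_pow.symm
        _ = w ^ e := by rw [hg', h2]
    rw [hh, (show Commute w'⁻¹ w from hY _ (inv_mem hw'Y) _ hw).mul_pow, inv_pow, hw',
      show (g * w * g⁻¹) ^ e = g * w ^ e * g⁻¹ from conj_pow, h1, inv_mul_cancel]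
  -- the elements of `Y` killed by `e` form a normal `p`-subgroup
  let Ω : Subgroup G :=
    { carrier := {y | y ∈ Y ∧ y ^ e = 1}
      one_mem' := ⟨Y.one_mem, one_pow e⟩
      mul_mem' := fun {a b} ha hb => ⟨Y.mul_mem ha.1 hb.1, by
        rw [(show Commute a b from hY a ha.1 b hb.1).mul_pow, ha.2, hb.2, one_mul]⟩
      inv_mem' := fun {a} ha => ⟨Y.inv_mem ha.1, by rw [inv_pow, ha.2, inv_one]⟩ }
  haveI : Ω.Normal := ⟨fun y hy c => ⟨(inferInstance : Y.Normal).conj_mem y hy.1 c, by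
    rw [conj_pow, hy.2, mul_one, mul_inv_cancel]⟩⟩
  have hΩp : IsPGroup p Ω := fun y => ⟨n, Subtype.ext y.2.2⟩
  have hhcore : h ∈ pCore p G := CfsgLib.le_pCore hΩp ⟨hhY, hhe⟩
  -- so `B` centralises `h`
  have hBh : B ≤ Subgroup.centralizer ({h} : Set G) := by
    rw [hBgen, Subgroup.closure_le]
    rintro b ⟨m, hm⟩
    obtain ⟨P, hP⟩ := (IsPGroup.of_card (n := m)
      (show Nat.card (Subgroup.zpowers b) = p ^ m by rw [Nat.card_zpowers, hm])).exists_le_sylow
    exact Subgroup.mem_centralizer_singleton_iff.2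
      (hA p P b (hP (Subgroup.mem_zpowers b)) h (CfsgLib.pCore_le_sylow P hhcore))
  have hhB' : h ∈ B := Subgroup.commutator_le_self B hhB
  have hone : (⟨h, hhB'⟩ : B) = 1 := by
    refine eq_one_of_central_commutator (p := p) (j := n) (hA.subgroup B) (Subtype.ext hhe)
      (Subgroup.mem_center_iff.2 fun b => Subtype.ext
        (Subgroup.mem_centralizer_singleton_iff.1 (hBh b.2))) ?_
    have h1 : (⁅B, B⁆ : Subgroup G) = (commutator B).map B.subtype := by
      rw [commutator_def, Subgroup.map_commutator, ← MonoidHom.range_eq_map, Subgroup.range_subtype]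
    rw [h1] at hhB
    obtain ⟨c, hc, hce⟩ := hhB
    rwa [show (⟨h, hhB'⟩ : B) = c from Subtype.ext hce.symm]
  have hh1 : h = 1 := congrArg Subtype.val hone
  refine ⟨?_, ?_⟩
  · show g * w = w * g
    have : w' = w := inv_mul_eq_one.1 (hh ▸ hh1)
    exact mul_inv_eq_iff_eq_mul.1 this
  · show g * k = k * g
    rw [hh1, one_mul] at hk'
    exact mul_inv_eq_iff_eq_mul.1 hk'

theorem main (hA : AllAb G) (a : ℕ)
    (hmax : ∀ y : G, ¬ 2 ^ (a + 1) ∣ (Subgroup.centralizer ({y} : Set G)).index)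
    (x : G) (hx : (Subgroup.centralizer ({x} : Set G)).index = 2 ^ a) : Group.IsSolvable G := by
  haveI : Fact (Nat.Prime 2) := ⟨Nat.prime_two⟩
  by_contra hns
  -- replace `x` by its odd part
  obtain ⟨w, hwodd, hwidx⟩ : ∃ w : G, ¬ 2 ∣ orderOf w ∧
      (Subgroup.centralizer ({w} : Set G)).index = 2 ^ a := by
    obtain ⟨z, w, hzw, hc, ⟨i, hi⟩, hw, hzx, hwx⟩ := CfsgLib.Blocks.exists_pPart Nat.prime_two x
    refine ⟨w, hw, ?_⟩
    have hle : ∀ y ∈ Subgroup.zpowers x,
        Subgroup.centralizer ({x} : Set G) ≤ Subgroup.centralizer ({y} : Set G) := by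
      intro y hy c hcx
      obtain ⟨m, rfl⟩ := hy
      exact Subgroup.mem_centralizer_singleton_iff.2
        (Commute.zpow_right (show Commute c x from Subgroup.mem_centralizer_singleton_iff.1 hcx) m).eq
    have hztop : Subgroup.centralizer ({z} : Set G) = ⊤ := by
      obtain ⟨P, hP⟩ := (IsPGroup.of_card (n := i)
        (show Nat.card (Subgroup.zpowers z) = 2 ^ i by rw [Nat.card_zpowers, hi])).exists_le_sylow
      have hPz : (P : Subgroup G) ≤ Subgroup.centralizer ({z} : Set G) := fun c hc' =>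
        Subgroup.mem_centralizer_singleton_iff.2 (hA 2 P c hc' z (hP (Subgroup.mem_zpowers z)))
      rw [← Subgroup.index_eq_one]
      refine Nat.eq_one_of_dvd_coprimes
        (Nat.Coprime.pow_right a ((Nat.prime_two.coprime_iff_not_dvd.2 P.not_dvd_index).symm))
        (Subgroup.index_dvd_of_le hPz) ?_
      exact hx ▸ Subgroup.index_dvd_of_le (hle z hzx)
    have : Subgroup.centralizer ({w} : Set G) = Subgroup.centralizer ({x} : Set G) := by
      refine le_antisymm (fun c hcw => ?_) (hle w hwx)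
      rw [Subgroup.mem_centralizer_singleton_iff] at hcw ⊢
      have hcz : Commute c z :=
        Subgroup.mem_centralizer_singleton_iff.1 (hztop ▸ Subgroup.mem_top c : c ∈ Subgroup.centralizer ({z} : Set G))
      rw [← hzw]
      exact (hcz.mul_right hcw).eq
    rw [this, hx]
  set N := pCore 2 G with hN
  haveI : N.Normal := inferInstance
  have hNp : IsPGroup 2 N := CfsgLib.isPGroup_pCore 2
  set f := QuotientGroup.mk' N with hf
  have hfs : Function.Surjective f := QuotientGroup.mk'_surjective N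
  have hAb : AllAb (G ⧸ N) := hA.of_surjective f hfs
  have hnsq : ¬ Group.IsSolvable (G ⧸ N) := fun h => hns (by
    haveI := hNp.isNilpotent
    exact (Group.isSolvable_iff_subgroup_quotient N).2 ⟨inferInstance, h⟩)
  -- `2`-elements centralise `N`
  have htwoN : ∀ (g : G) (i : ℕ), orderOf g = 2 ^ i → g ∈ Subgroup.centralizer (N : Set G) := by
    intro g i hi
    obtain ⟨P, hP⟩ := (IsPGroup.of_card (n := i)
      (show Nat.card (Subgroup.zpowers g) = 2 ^ i by rw [Nat.card_zpowers, hi])).exists_le_sylow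
    exact fun c hc => hA 2 P c (CfsgLib.pCore_le_sylow P hc) g (hP (Subgroup.mem_zpowers g))
  -- the image of the centraliser
  set D := Subgroup.centralizer ({f w} : Set (G ⧸ N)) with hD
  have hDimg : (Subgroup.centralizer ({w} : Set G)).map f = D := by
    have hcop : (Nat.card (Subgroup.zpowers w)).Coprime (Nat.card N) := by
      obtain ⟨i, hi⟩ := IsPGroup.iff_card.1 hNp
      rw [Nat.card_zpowers, hi]
      exact ((Nat.prime_two.coprime_iff_not_dvd).2 hwodd).symm.pow_right i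
    refine le_antisymm ?_ fun y hy => ?_
    · rintro _ ⟨c, hc, rfl⟩
      rw [hD, Subgroup.mem_centralizer_singleton_iff, ← map_mul,
        Subgroup.mem_centralizer_singleton_iff.1 hc, map_mul]
    · obtain ⟨g, rfl⟩ := hfs y
      rw [hD, Subgroup.mem_centralizer_singleton_iff] at hy
      obtain ⟨n, hn, hnc⟩ := CfsgLib.coprime_key_normalize (A := Subgroup.zpowers w) (W := N) hcop
        (Or.inl inferInstance) (by rw [Subgroup.normalizer_eq_top]; exact le_top) (k := g) (by
          rintro b ⟨m, rfl⟩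
          have h1 : f (g⁻¹ * w ^ m * g * (w ^ m)⁻¹) = 1 := by
            simp only [map_mul, map_inv, map_zpow]
            rw [show (f g)⁻¹ * f w ^ m * f g = f w ^ m from by
              rw [mul_assoc, ← ((show Commute (f g) (f w) from hy).zpow_right m).eq, ← mul_assoc,
                inv_mul_cancel, one_mul], mul_inv_cancel]
          have h2 := Subgroup.mul_mem_sup ((QuotientGroup.eq_one_iff _).1 h1) (Subgroup.zpow_mem_zpowers w m)
          simpa [mul_assoc] using h2)
      refine ⟨g * n, ?_, by rw [map_mul, show f n = 1 from (QuotientGroup.eq_one_iff n).2 hn, mul_one]⟩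
      rw [SetLike.mem_coe, Subgroup.mem_centralizer_singleton_iff]
      have h1 : f (g * n * w * (g * n)⁻¹ * w⁻¹) = 1 := by
        simp only [map_mul, map_inv, show f n = 1 from (QuotientGroup.eq_one_iff n).2 hn, mul_one]
        rw [hy, mul_inv_cancel_right, mul_inv_cancel]
      have h2 := Subgroup.disjoint_def.1 (Subgroup.disjoint_of_coprime_natCard hcop)
        (mul_mem (hnc w (Subgroup.mem_zpowers w)) (inv_mem (Subgroup.mem_zpowers w)))
        ((QuotientGroup.eq_one_iff _).1 h1)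
      rw [mul_inv_eq_one, mul_inv_eq_iff_eq_mul] at h2
      exact h2
  obtain ⟨b, -, hDidx⟩ := (Nat.dvd_prime_pow Nat.prime_two).1
    (hwidx ▸ Subgroup.index_map_dvd (Subgroup.centralizer ({w} : Set G)) hfs)
  rw [hDimg] at hDidx
  have hDns : ¬ Group.IsSolvable D := fun h =>
    hnsq (isSolvable_of_solvable_twoPower_index hAb.twoAb D h ⟨b, hDidx⟩)
  -- a minimal non-solvable subgroup
  classical
  obtain ⟨Q, ⟨hQD, hQns⟩, hQmin⟩ := (Set.toFinite {Q : Subgroup (G ⧸ N) | Q ≤ D ∧ ¬ Group.IsSolvable Q}).exists_minimal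
    ⟨D, le_rfl, hDns⟩
  obtain ⟨p, k₀, s₀, hp, hp2, ⟨n, hk₀⟩, hk₀R, ⟨i, hs₀⟩, hinv₀⟩ := exists_real (hAb.subgroup Q) hQns
  haveI := Fact.mk hp
  set k : G ⧸ N := (k₀ : G ⧸ N) with hkdef
  set s : G ⧸ N := (s₀ : G ⧸ N) with hsdef
  have hko : orderOf k = p ^ n := by rw [hkdef, Subgroup.orderOf_coe, hk₀]
  have hso : orderOf s = 2 ^ i := by rw [hsdef, Subgroup.orderOf_coe, hs₀]
  have hinv : s * k * s⁻¹ = k⁻¹ := congrArg Subtype.val hinv₀
  set B : Subgroup (G ⧸ N) := Subgroup.closure {y | ∃ m : ℕ, orderOf y = p ^ m} with hB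
  haveI hBn : B.Normal := by
    refine ⟨fun y hy g => ?_⟩
    have h1 : g * y * g⁻¹ ∈ B.map (MulAut.conj g).toMonoidHom := ⟨y, hy, rfl⟩
    rw [hB, MonoidHom.map_closure] at h1
    refine Subgroup.closure_mono ?_ h1
    rintro _ ⟨c, ⟨m, hm⟩, rfl⟩
    exact ⟨m, by rw [MulEquiv.coe_toMonoidHom, MulEquiv.orderOf_eq, hm]⟩
  -- `Q` is generated by its `p`-elements
  have hQB : Q ≤ B := by
    set Q₀ : Subgroup Q := B.subgroupOf Q with hQ₀
    by_contra hcon
    have hQ₀ne : Q₀ ≠ ⊤ := fun h => hcon (Subgroup.subgroupOf_eq_top.1 h)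
    have hsol : Group.IsSolvable Q₀ := by
      by_contra hns0
      refine hQ₀ne (Subgroup.subgroupOf_eq_top.2 ?_)
      have hle : B ⊓ Q ≤ Q := inf_le_right
      have hmem : (B ⊓ Q) ∈ {Q : Subgroup (G ⧸ N) | Q ≤ D ∧ ¬ Group.IsSolvable Q} := by
        refine ⟨hle.trans hQD, fun h => hns0 ?_⟩
        exact Group.isSolvable_of_isSolvable_injective
          (f := (⟨⟨fun x => ⟨((x : Q) : G ⧸ N), x.2, (x : Q).2⟩, rfl⟩, fun a b => rfl⟩ :
            Q₀ →* (B ⊓ Q : Subgroup (G ⧸ N))))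
          (fun a b h => Subtype.ext (Subtype.ext (congrArg (fun x : (B ⊓ Q : Subgroup (G ⧸ N)) => (x : G ⧸ N)) h :)))
      exact (hQmin hmem hle).trans inf_le_left
    exact hk₀R (CfsgLib.le_solvableRadical hsol
      (show (k₀ : G ⧸ N) ∈ B from Subgroup.subset_closure ⟨n, hko⟩))
  have hkd : k ∈ ⁅B, B⁆ := by
    have h1 : k ^ 2 ∈ ⁅B, B⁆ := by
      have h2 : ⁅k, s⁆ ∈ ⁅B, B⁆ := Subgroup.commutator_mem_commutator (hQB k₀.2) (hQB s₀.2)
      have h3 : ⁅k, s⁆ = k ^ 2 := by
        rw [commutatorElement_def, show k * s * k⁻¹ * s⁻¹ = k * (s * k * s⁻¹)⁻¹ by group, hinv, inv_inv, pow_two]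
      rwa [h3] at h2
    have hodd : (2 : ℕ).Coprime (orderOf k) := by
      rw [hko]; exact ((Nat.coprime_primes Nat.prime_two hp).2 (Ne.symm hp2)).pow_right n
    obtain ⟨m, hm⟩ := exists_pow_eq_self_of_coprime hodd
    rw [← hm]
    exact pow_mem h1 m
  have hk1 : k ≠ 1 := fun h => hk₀R (by
    rw [show k₀ = 1 from Subtype.ext h]
    exact one_mem _)
  have hkinv : k ≠ k⁻¹ := by
    intro h
    have h1 : orderOf k ∣ 2 := orderOf_dvd_of_pow_eq_one (by rw [pow_two]; nth_rewrite 2 [h]; exact mul_inv_cancel k)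
    rw [hko] at h1
    exact hk1 (orderOf_eq_one_iff.1 (hko.trans (Nat.eq_one_of_dvd_coprimes
      (((Nat.coprime_primes hp Nat.prime_two).2 hp2).pow_left n) dvd_rfl h1)))
  -- lift `k` to `C(N)`
  obtain ⟨kG, hkGN, hkG⟩ : k ∈ (Subgroup.centralizer (N : Set G)).map f := by
    haveI : ((Subgroup.centralizer (N : Set G)).map f).Normal := Subgroup.Normal.map inferInstance f hfs
    have hs' : s ∈ (Subgroup.centralizer (N : Set G)).map f := by
      obtain ⟨g, hg⟩ := hfs s
      obtain ⟨z, u, hzu, hzuc, ⟨j, hj⟩, hu, -, huz⟩ := CfsgLib.Blocks.exists_pPart Nat.prime_two g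
      refine ⟨z, htwoN z j hj, ?_⟩
      have hfu : f u = 1 := by
        rw [← orderOf_eq_one_iff]
        refine Nat.eq_one_of_dvd_coprimes (a := 2 ^ i) (b := orderOf u)
          (((Nat.prime_two.coprime_iff_not_dvd).2 hu).pow_left i) ?_ (orderOf_map_dvd f u)
        have hmem : f u ∈ Subgroup.zpowers s := by
          rw [← hg, ← MonoidHom.map_zpowers]
          exact ⟨u, huz, rfl⟩
        have h1 := Subgroup.orderOf_dvd_natCard _ hmem
        rwa [Nat.card_zpowers, hso] at h1
      rw [← hg, ← hzu, map_mul, hfu, mul_one]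
    have h2 : k ^ 2 ∈ (Subgroup.centralizer (N : Set G)).map f := by
      have h3 : k ^ 2 = k * s * k⁻¹ * s⁻¹ := by
        rw [show k * s * k⁻¹ * s⁻¹ = k * (s * k * s⁻¹)⁻¹ by group, hinv, inv_inv, pow_two]
      rw [h3]
      exact mul_mem ((inferInstance : ((Subgroup.centralizer (N : Set G)).map f).Normal).conj_mem s hs' k)
        (inv_mem hs')
    have hodd : (2 : ℕ).Coprime (orderOf k) := by
      rw [hko]; exact ((Nat.coprime_primes Nat.prime_two hp).2 (Ne.symm hp2)).pow_right n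
    obtain ⟨m, hm⟩ := exists_pow_eq_self_of_coprime hodd
    rw [← hm]
    exact pow_mem h2 m
  set y := w * kG with hy
  -- `Y`, abelian normal
  set Y := Subgroup.normalClosure ({f w} : Set (G ⧸ N)) with hY
  haveI : Y.Normal := Subgroup.normalClosure_normal
  have hgenY : ∀ c ∈ Group.conjugatesOfSet ({f w} : Set (G ⧸ N)),
      ∀ d ∈ Group.conjugatesOfSet ({f w} : Set (G ⧸ N)), c * d = d * c := by
    intro c hc d hd
    obtain ⟨c', hc', hcc⟩ := Group.mem_conjugatesOfSet_iff.1 hc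
    obtain ⟨d', hd', hdd⟩ := Group.mem_conjugatesOfSet_iff.1 hd
    rw [Set.mem_singleton_iff] at hc' hd'
    subst hc'; subst hd'
    obtain ⟨gc, rfl⟩ := isConj_iff.1 hcc
    obtain ⟨gd, rfl⟩ := isConj_iff.1 hdd
    obtain ⟨g1, rfl⟩ := hfs gc
    obtain ⟨g2, rfl⟩ := hfs gd
    have h1 : f _ = 1 := (QuotientGroup.eq_one_iff _).2 (CfsgLib.Kazarin.commutator_mem_pCore w hwidx g1 g2)
    simp only [map_mul, map_inv] at h1
    rwa [mul_inv_eq_one, mul_inv_eq_iff_eq_mul] at h1
  have hYab : ∀ c ∈ Y, ∀ d ∈ Y, c * d = d * c := by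
    have h1 : Y ≤ Subgroup.centralizer (Group.conjugatesOfSet ({f w} : Set (G ⧸ N))) :=
      (Subgroup.closure_le _).2 fun c hc d hd => hgenY d hd c hc
    have h2 : Y ≤ Subgroup.centralizer (Y : Set (G ⧸ N)) := by
      refine (Subgroup.closure_le _).2 fun c hc d hd => ?_
      exact (h1 hd c hc).symm
    exact fun c hc d hd => h2 hd c hc
  have hwk : Commute (f w) k := ((Subgroup.mem_centralizer_singleton_iff.1 (hQD k₀.2)) : k * f w = f w * k).symm
  have hsD : s ∈ D := hQD s₀.2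
  -- `C(f y) ≤ D ⊓ C(k)`
  set J := D ⊓ Subgroup.centralizer ({k} : Set (G ⧸ N)) with hJ
  have himg : (Subgroup.centralizer ({y} : Set G)).map f ≤ J := by
    rintro _ ⟨g, hg, rfl⟩
    have hg' : f g ∈ Subgroup.centralizer ({f w * k} : Set (G ⧸ N)) := by
      rw [Subgroup.mem_centralizer_singleton_iff, ← hkG, ← map_mul, ← hy, ← map_mul,
        Subgroup.mem_centralizer_singleton_iff.1 hg, map_mul]
    obtain ⟨h1, h2⟩ := centralizer_mul_le hAb B Y hB hYab
      (Subgroup.subset_normalClosure rfl) hwk hko hkd hg'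
    exact ⟨Subgroup.mem_centralizer_singleton_iff.2 h1.eq, Subgroup.mem_centralizer_singleton_iff.2 h2.eq⟩
  have hinf : Subgroup.centralizer ({y} : Set G) ⊓ N = Subgroup.centralizer ({w} : Set G) ⊓ N := by
    ext g
    simp only [Subgroup.mem_inf, Subgroup.mem_centralizer_singleton_iff, hy]
    refine and_congr_left fun hg => ?_
    have hc : Commute g kG := hkGN g hg
    constructor
    · intro h
      have : g * w * kG = w * g * kG := by rw [mul_assoc, h, mul_assoc, mul_assoc, hc.eq]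
      exact mul_right_cancel this
    · intro h
      rw [← mul_assoc, h, mul_assoc, hc.eq, ← mul_assoc]
  -- `J` has even index in `D`
  have hJD : 2 * Nat.card J ∣ Nat.card D := by
    let J' : Subgroup (G ⧸ N) :=
      { carrier := {d | d ∈ D ∧ (d * k * d⁻¹ = k ∨ d * k * d⁻¹ = k⁻¹)}
        one_mem' := ⟨D.one_mem, Or.inl (by simp)⟩
        mul_mem' := fun {c d} hc hd => ⟨D.mul_mem hc.1 hd.1, by
          rw [show c * d * k * (c * d)⁻¹ = c * (d * k * d⁻¹) * c⁻¹ by group]
          rcases hd.2 with h | h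
          · rw [h]; exact hc.2
          · rw [h, show c * k⁻¹ * c⁻¹ = (c * k * c⁻¹)⁻¹ by group]
            rcases hc.2 with h' | h'
            · right; rw [h']
            · left; rw [h', inv_inv]⟩
        inv_mem' := fun {c} hc => ⟨D.inv_mem hc.1, by
          rcases hc.2 with h | h
          · left; nth_rewrite 1 [← h]; group
          · right
            nth_rewrite 1 [show k = (c * k * c⁻¹)⁻¹ by rw [h, inv_inv]]
            group⟩ }
    have hle : J ≤ J' := fun d hd => ⟨hd.1, Or.inl (by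
      rw [Subgroup.mem_centralizer_singleton_iff.1 hd.2, mul_inv_cancel_right])⟩
    have hidx : (J.subgroupOf J').index = 2 := by
      rw [Subgroup.index_eq_two_iff]
      refine ⟨⟨s, hsD, Or.inr hinv⟩, fun d => ?_⟩
      have hmem : ∀ c : J', c ∈ J.subgroupOf J' ↔ (c : G ⧸ N) * k * (c : G ⧸ N)⁻¹ = k := by
        intro c
        rw [Subgroup.mem_subgroupOf, hJ, Subgroup.mem_inf, mul_inv_eq_iff_eq_mul]
        exact ⟨fun h => Subgroup.mem_centralizer_singleton_iff.1 h.2,
          fun h => ⟨c.2.1, Subgroup.mem_centralizer_singleton_iff.2 h⟩⟩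
      simp only [hmem]
      show Xor ((d : G ⧸ N) * s * k * ((d : G ⧸ N) * s)⁻¹ = k) ((d : G ⧸ N) * k * (d : G ⧸ N)⁻¹ = k)
      rw [show (d : G ⧸ N) * s * k * ((d : G ⧸ N) * s)⁻¹ = (d : G ⧸ N) * (s * k * s⁻¹) * (d : G ⧸ N)⁻¹ by group,
        hinv, show (d : G ⧸ N) * k⁻¹ * (d : G ⧸ N)⁻¹ = ((d : G ⧸ N) * k * (d : G ⧸ N)⁻¹)⁻¹ by group]
      rcases d.2.2 with h | h
      · exact Or.inr ⟨h, fun h' => hkinv (by rw [h] at h'; exact h'.symm)⟩
      · exact Or.inl ⟨by rw [h, inv_inv], fun h' => hkinv (h'.symm.trans h)⟩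
    have h1 : Nat.card J' = 2 * Nat.card J := by
      rw [← (J.subgroupOf J').card_mul_index, hidx, mul_comm,
        Nat.card_congr (Subgroup.subgroupOfEquivOfLe hle).toEquiv]
    exact h1 ▸ Subgroup.card_dvd_of_le (fun d hd => hd.1 : J' ≤ D)
  have hdvd : 2 * Nat.card (Subgroup.centralizer ({y} : Set G)) ∣
      Nat.card (Subgroup.centralizer ({w} : Set G)) := by
    rw [card_eq_inf_mul_map N (Subgroup.centralizer ({y} : Set G)),
      card_eq_inf_mul_map N (Subgroup.centralizer ({w} : Set G)), hinf, hDimg, mul_left_comm]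
    exact mul_dvd_mul_left _ ((mul_dvd_mul_left 2 (Subgroup.card_dvd_of_le himg)).trans hJD)
  obtain ⟨q, hq⟩ := hdvd
  refine hmax y ⟨q, mul_left_cancel₀ (a := Nat.card (Subgroup.centralizer ({y} : Set G)))
    Nat.card_pos.ne' ?_⟩
  rw [Subgroup.card_mul_index, ← (Subgroup.centralizer ({w} : Set G)).card_mul_index, hwidx, hq, pow_succ]
  ring

end CfsgLib.AbTwoCompl
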