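import Cfsg.Agent.S0205
import Cfsg.Agent.S0223
import Cfsg.Agent.S1225
import Cfsg.Agent.Lib.PSolvable
import Cfsg.Agent.Lib.HallSolvable
import Cfsg.Agent.Lib.CoxTorus.KerCount

/-!
# Abelian Sylow `2`-subgroups and subgroups of `2`-power index

A finite group with abelian Sylow `2`-subgroups having a solvable subgroup of `2`-power index is
solvable.  In a minimal counterexample, `N(S)` is strongly embedded, and the odd group
`D = X ∩ X^u` then fixes exactly one coset of the odd subgroup, which the involution `u` must fix.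
-/

namespace CfsgLib.AbTwoCompl

open Cfsg
open scoped Pointwise

set_option linter.unusedVariables false
set_option linter.unusedSectionVars false
set_option linter.style.haveILetI false

universe u v

/-- The Sylow `2`-subgroups are abelian. -/
def TwoAb (G : Type u) [Group G] : Prop :=
  ∀ P : Sylow 2 G, ∀ a ∈ P, ∀ b ∈ P, a * b = b * a

variable {G : Type u} [Group G] [Finite G]

theorem TwoAb.subgroup (h : TwoAb G) (K : Subgroup G) : TwoAb K := by
  intro P a ha b hb
  obtain ⟨Q, hQ⟩ := (P.2.map K.subtype).exists_le_sylow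
  exact Subtype.ext (h Q a (hQ ⟨a, ha, rfl⟩) b (hQ ⟨b, hb, rfl⟩))

theorem TwoAb.of_surjective (h : TwoAb G) {H : Type v} [Group H] [Finite H] (f : G →* H)
    (hf : Function.Surjective f) : TwoAb H := by
  haveI : Fact (Nat.Prime 2) := ⟨Nat.prime_two⟩
  intro P
  obtain ⟨Q, rfl⟩ := Sylow.mapSurjective_surjective hf 2 P
  rintro _ ⟨a, ha, rfl⟩ _ ⟨b, hb, rfl⟩
  rw [← map_mul, h Q a ha b hb, map_mul]

/-- An abelian `2`-subgroup with only one involution is cyclic. -/
theorem isCyclic_of_unique_involution {S : Subgroup G} (hS : IsPGroup 2 S)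
    (hc : ∀ a ∈ S, ∀ b ∈ S, a * b = b * a) {z : G}
    (hz : ∀ w ∈ S, orderOf w = 2 → w = z) : IsCyclic S := by
  classical
  letI : CommGroup S :=
    { (inferInstance : Group S) with mul_comm := fun a b => Subtype.ext (hc a a.2 b b.2) }
  refine CfsgLib.CoxTorus.isCyclic_of_prime_card_le fun p hp => ?_
  haveI := Fact.mk hp
  by_cases hp2 : p = 2
  · subst hp2
    by_cases hzS : z ∈ S
    · let f : (powMonoidHom 2 : S →* S).ker → Fin 2 := fun x => if (x : S) = 1 then 0 else 1
      have hf : Function.Injective f := by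
        intro x y e
        by_cases hx : (x : S) = 1 <;> by_cases hy : (y : S) = 1
        · exact Subtype.ext (hx.trans hy.symm)
        · exact absurd e (by simp only [f, if_pos hx, if_neg hy]; decide)
        · exact absurd e (by simp only [f, if_neg hx, if_pos hy]; decide)
        · have hk : ∀ w : (powMonoidHom 2 : S →* S).ker, (w : S) ≠ 1 → ((w : S) : G) = z := by
            intro w hw
            refine hz _ w.1.2 ?_
            rw [Subgroup.orderOf_coe]
            exact orderOf_eq_prime w.2 hw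
          exact Subtype.ext (Subtype.ext ((hk x hx).trans (hk y hy).symm))
      simpa using Nat.card_le_card_of_injective f hf
    · refine le_trans (le_of_eq ?_) (show 1 ≤ 2 by norm_num)
      rw [Subgroup.card_eq_one, eq_bot_iff]
      intro w hw
      by_contra hne
      exact hzS (hz _ w.2 (by rw [Subgroup.orderOf_coe]; exact orderOf_eq_prime hw hne) ▸ w.2)
  · refine le_trans (le_of_eq ?_) hp.one_lt.le
    rw [Subgroup.card_eq_one, eq_bot_iff]
    intro w hw
    obtain ⟨k, hk⟩ := IsPGroup.iff_orderOf.1 hS w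
    have h1 : orderOf w ∣ p := orderOf_dvd_of_pow_eq_one hw
    rw [hk] at h1
    have h2 : (2 ^ k).Coprime p :=
      Nat.Coprime.pow_left k ((Nat.coprime_primes Nat.prime_two hp).2 (Ne.symm hp2))
    rw [Subgroup.mem_bot, ← orderOf_eq_one_iff, hk]
    exact Nat.eq_one_of_dvd_coprimes h2 dvd_rfl h1

/-- The main step. -/
theorem no_simple [IsSimpleGroup G] (hab : TwoAb G) (hns : ¬ Group.IsSolvable G) (H : Subgroup G)
    (hH : Odd (Nat.card H)) {e : ℕ} (he : H.index = 2 ^ e)
    (ih : ∀ C : Subgroup G, C ≠ ⊤ → TwoAb C → ∀ K : Subgroup C, Odd (Nat.card K) →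
      (∃ k : ℕ, K.index = 2 ^ k) → Group.IsSolvable C) : False := by
  haveI : Fact (Nat.Prime 2) := ⟨Nat.prime_two⟩
  have heven : Even (Nat.card G) :=
    Nat.not_odd_iff_even.1 fun h => hns (Cfsg.Agent.S0205.result h)
  let S : Sylow 2 G := default
  have hcop : ∀ k : ℕ, (Nat.card H).Coprime (2 ^ k) := fun k =>
    Nat.Coprime.pow_right k (Nat.coprime_two_right.2 hH)
  have hGcard : Nat.card G = Nat.card H * 2 ^ e := by rw [← he, H.card_mul_index]
  have hScard : Nat.card (S : Subgroup G) = 2 ^ e := by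
    obtain ⟨k, hk⟩ := S.2.exists_card_eq
    have h1 : 2 ^ k ∣ 2 ^ e :=
      (hcop k).symm.dvd_of_dvd_mul_left (hGcard ▸ hk ▸ Subgroup.card_subgroup_dvd_card _)
    have h2 : 2 ^ e ∣ Nat.card (S : Subgroup G) :=
      S.pow_dvd_card_of_pow_dvd_card ⟨Nat.card H, by rw [hGcard, mul_comm]⟩
    exact Nat.dvd_antisymm (hk ▸ h1) h2
  have hS1 : (S : Subgroup G) ≠ ⊥ := Sylow.ne_bot_of_dvd_card S heven.two_dvd
  have hcompl : Subgroup.IsComplement' H (S : Subgroup G) :=
    Subgroup.isComplement'_of_coprime (by rw [hScard, hGcard]) (by rw [hScard]; exact hcop e)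
  have hdisj : ∀ x, x ∈ H → x ∈ (S : Subgroup G) → x = 1 := fun x h1 h2 =>
    Subgroup.disjoint_def.1 hcompl.disjoint h1 h2
  have hHS : ∀ g : G, ∃ h ∈ H, ∃ s ∈ (S : Subgroup G), g = h * s := by
    intro g
    have hg : g ∈ (H : Set G) * ((S : Subgroup G) : Set G) := by
      rw [hcompl.mul_eq]; exact Set.mem_univ g
    obtain ⟨h, hh, s, hs, rfl⟩ := hg
    exact ⟨h, hh, s, hs, rfl⟩
  have hSH : ∀ g : G, ∃ s : (S : Subgroup G), (s : G)⁻¹ * g ∈ H := by
    intro g
    obtain ⟨h, hh, s, hs, e⟩ := hHS g⁻¹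
    refine ⟨⟨s⁻¹, inv_mem hs⟩, ?_⟩
    show (s⁻¹)⁻¹ * g ∈ H
    rw [inv_inv, show g = s⁻¹ * h⁻¹ by rw [← mul_inv_rev, ← e, inv_inv]]
    simpa using inv_mem hh
  have hHne : H ≠ ⊤ := fun h => by
    rw [h, Subgroup.card_top] at hH
    exact (Nat.not_even_iff_odd.2 hH) heven
  have hcenter : Subgroup.center G = ⊥ := by
    rcases (Subgroup.Normal.eq_bot_or_eq_top (inferInstance : (Subgroup.center G).Normal)) with h | h
    · exact h
    · exact absurd (Group.isSolvable_of_comm fun a b =>
        (Subgroup.mem_center_iff.1 (h ▸ Subgroup.mem_top b : b ∈ Subgroup.center G) a)) hns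
  haveI hScomm : IsMulCommutative (S : Subgroup G) :=
    ⟨⟨fun a b => Subtype.ext (hab S a a.2 b b.2)⟩⟩
  -- centralisers of involutions normalise `S`
  have hcent : ∀ t ∈ (S : Subgroup G), orderOf t = 2 →
      Subgroup.centralizer ({t} : Set G) ≤ Subgroup.normalizer ((S : Subgroup G) : Set G) := by
    intro t ht hto
    set C := Subgroup.centralizer ({t} : Set G) with hC
    have hSC : (S : Subgroup G) ≤ C := fun s hs =>
      Subgroup.mem_centralizer_singleton_iff.2 (hab S s hs t ht)
    have hCne : C ≠ ⊤ := by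
      intro h
      have : t ∈ Subgroup.center G := Subgroup.mem_center_iff.2 fun g =>
        Subgroup.mem_centralizer_singleton_iff.1 (h ▸ Subgroup.mem_top g : g ∈ C)
      rw [hcenter, Subgroup.mem_bot] at this
      rw [this, orderOf_one] at hto
      omega
    set K := H.subgroupOf C with hK
    have hKc : Nat.card K ∣ Nat.card H := Subgroup.card_dvd_of_injective
      (⟨⟨fun x => ⟨((x : C) : G), x.2⟩, rfl⟩, fun a b => rfl⟩ : K →* H)
      (fun a b h => Subtype.ext (Subtype.ext (congrArg (fun x : H => (x : G)) h :)))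
    have hKodd : Odd (Nat.card K) := hH.of_dvd_nat hKc
    have hKidx : K.index = 2 ^ e := by
      have h1 : K.index ≤ 2 ^ e := by
        rw [← he]
        exact (Subgroup.relIndex_le_of_le_right (le_top (a := C)) Subgroup.index_ne_zero_of_finite).trans_eq H.relIndex_top_right
      have h2 : 2 ^ e ∣ Nat.card K * K.index := by
        rw [K.card_mul_index, ← hScard]
        exact Subgroup.card_dvd_of_le hSC
      have h3 : 2 ^ e ∣ K.index :=
        ((Nat.coprime_two_right.2 hKodd).pow_right e).symm.dvd_of_dvd_mul_left h2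
      exact le_antisymm h1 (Nat.le_of_dvd (Nat.pos_of_ne_zero Subgroup.index_ne_zero_of_finite) h3)
    haveI : Group.IsSolvable C := ih C hCne (hab.subgroup C) K hKodd ⟨e, hKidx⟩
    -- the core is trivial
    have hO : pPrimeCore 2 C = ⊥ := by
      have hle : pPrimeCore 2 C ≤ K := by
        haveI : (pPrimeCore 2 C).Normal := Subgroup.sSup_normal _ (fun _ h => h.1)
        set M : Subgroup C := K ⊔ pPrimeCore 2 C with hM
        have h1 : Nat.card M ∣ Nat.card K * Nat.card (pPrimeCore 2 C) := CfsgLib.card_sup_dvd_mul K _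
        have h2 : Odd (Nat.card M) :=
          (hKodd.mul (Nat.coprime_two_right.1 (CfsgLib.card_pPrimeCore_coprime 2))).of_dvd_nat h1
        have h3 : Nat.card M ∣ Nat.card K * 2 ^ e := by
          rw [← hKidx, K.card_mul_index]; exact Subgroup.card_subgroup_dvd_card _
        have h4 : Nat.card M ∣ Nat.card K :=
          ((Nat.coprime_two_right.2 h2).pow_right e).dvd_of_dvd_mul_right h3
        have h5 : K = M := Subgroup.eq_of_le_of_card_ge le_sup_left (Nat.le_of_dvd Nat.card_pos h4)
        rw [h5]; exact le_sup_right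
      rw [eq_bot_iff]
      intro o ho
      have hall : ∀ g : G, g * (o : G) * g⁻¹ ∈ H := by
        intro g
        obtain ⟨h, hh, s, hs, rfl⟩ := hHS g
        haveI : (pPrimeCore 2 C).Normal := Subgroup.sSup_normal _ (fun _ h => h.1)
        have h1 : s * (o : G) * s⁻¹ ∈ H :=
          hle ((inferInstance : (pPrimeCore 2 C).Normal).conj_mem o ho ⟨s, hSC hs⟩)
        have := mul_mem (mul_mem hh h1) (inv_mem hh)
        simpa [mul_assoc] using this
      have hncl : Subgroup.normalClosure ({(o : G)} : Set G) ≤ H := by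
        rw [Subgroup.normalClosure, Subgroup.closure_le]
        intro x hx
        obtain ⟨y, hy, hyx⟩ := Group.mem_conjugatesOfSet_iff.1 hx
        rw [Set.mem_singleton_iff] at hy
        subst hy
        obtain ⟨g, rfl⟩ := isConj_iff.1 hyx
        exact hall g
      rcases (Subgroup.normalClosure_normal (s := ({(o : G)} : Set G))).eq_bot_or_eq_top with h | h
      · rw [Subgroup.mem_bot]
        exact Subtype.ext ((Subgroup.mem_bot).1 (h ▸ Subgroup.subset_normalClosure rfl))
      · exact absurd (eq_top_iff.2 (h ▸ hncl)) hHne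
    set SC : Sylow 2 C := S.subtype hSC with hSCdef
    have hle : (SC : Subgroup C) ≤ pCore 2 C := by
      refine le_trans ?_ (CfsgLib.centralizer_pCore_le Nat.prime_two hO)
      intro a ha b hb
      have hb' : b ∈ (SC : Subgroup C) := CfsgLib.pCore_le_sylow SC hb
      exact (hab.subgroup C SC b hb' a ha)
    have heq : (SC : Subgroup C) = pCore 2 C := le_antisymm hle (CfsgLib.pCore_le_sylow SC)
    haveI : ((S : Subgroup G).subgroupOf C).Normal := by
      have : (SC : Subgroup C) = (S : Subgroup G).subgroupOf C := rfl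
      rw [← this, heq]; infer_instance
    exact (Subgroup.normal_subgroupOf_iff_le_normalizer hSC).1 inferInstance
  -- `X = N(S)` is strongly embedded
  set X := Subgroup.normalizer ((S : Subgroup G) : Set G) with hX
  have hSX : (S : Subgroup G) ≤ X := Subgroup.le_normalizer
  have hinv : ∀ s ∈ X, orderOf s = 2 → s ∈ (S : Subgroup G) := by
    intro s hs hso
    have hp : IsPGroup 2 (Subgroup.zpowers s) :=
      IsPGroup.of_card (n := 1) (by rw [Nat.card_zpowers, hso, pow_one])
    have h1 := hp.inf_normalizer_sylow S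
    have : s ∈ Subgroup.zpowers s ⊓ Subgroup.normalizer ((S : Subgroup G) : Set G) :=
      ⟨Subgroup.mem_zpowers s, hs⟩
    erw [h1] at this
    exact this.2
  obtain ⟨t, ht, hto⟩ : ∃ t ∈ (S : Subgroup G), orderOf t = 2 := by
    haveI : Nontrivial (S : Subgroup G) := (Subgroup.nontrivial_iff_ne_bot _).2 hS1
    obtain ⟨k, hk⟩ := S.2.exists_card_eq
    have hk0 : k ≠ 0 := fun h => by
      rw [h, pow_zero] at hk
      exact hS1 (Subgroup.card_eq_one.1 hk)
    obtain ⟨x, hx⟩ := exists_prime_orderOf_dvd_card' (G := (S : Subgroup G)) 2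
      (hk ▸ dvd_pow_self 2 hk0)
    exact ⟨x, x.2, by rw [Subgroup.orderOf_coe]; exact hx⟩
  have hSne : (S : Subgroup G) ≠ ⊤ := fun h =>
    hns (by
      haveI := (h ▸ S.2 : IsPGroup 2 (⊤ : Subgroup G)).isNilpotent
      exact Group.isSolvable_of_surjective (f := (Subgroup.topEquiv (G := G)).toMonoidHom)
        (Subgroup.topEquiv (G := G)).surjective)
  have hXne : X ≠ ⊤ := by
    intro h
    have hn : (S : Subgroup G).Normal := Subgroup.normalizer_eq_top_iff.1 h
    rcases hn.eq_bot_or_eq_top with h1 | h1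
    · exact hS1 h1
    · exact hSne h1
  have hXeven : Even (Nat.card X) :=
    even_iff_two_dvd.2 (hto ▸ Subgroup.orderOf_dvd_natCard _ (hSX ht))
  have hSE : IsStronglyEmbedded X := by
    refine (Cfsg.Agent.S0223.result X hXne hXeven).2 ⟨fun a ha hao => hcent a (hinv a ha hao) hao, ?_⟩
    intro a ha b hb hao hbo hconj
    obtain ⟨g, hg⟩ := isConj_iff.1 hconj
    have haS := hinv a ha hao
    have hbS := hinv b hb hbo
    obtain ⟨n, hn, hne⟩ := S.conj_eq_normalizer_conj_of_mem a g⁻¹ haS
      (by rw [inv_inv, hg]; exact hbS)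
    rw [inv_inv, hg] at hne
    exact ⟨n⁻¹, inv_mem hn, by rw [inv_inv]; exact hne.symm⟩
  obtain ⟨u, huo, huX⟩ : ∃ u : G, orderOf u = 2 ∧ u ∉ X := by
    by_contra hcon
    push Not at hcon
    have hle : Subgroup.normalClosure ({t} : Set G) ≤ (S : Subgroup G) := by
      rw [Subgroup.normalClosure, Subgroup.closure_le]
      intro x hx
      obtain ⟨y, hy, hyx⟩ := Group.mem_conjugatesOfSet_iff.1 hx
      rw [Set.mem_singleton_iff] at hy
      subst hy
      obtain ⟨g, rfl⟩ := isConj_iff.1 hyx
      have ho : orderOf (g * y * g⁻¹) = 2 := by rw [CfsgLib.Involutions.orderOf_conj, hto]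
      exact hinv _ (hcon _ ho) ho
    rcases (Subgroup.normalClosure_normal (s := ({t} : Set G))).eq_bot_or_eq_top with h | h
    · have := (Subgroup.mem_bot).1 (h ▸ Subgroup.subset_normalClosure (Set.mem_singleton t) :
        t ∈ (⊥ : Subgroup G))
      rw [this, orderOf_one] at hto
      omega
    · exact hSne (top_le_iff.1 (h ▸ hle))
  set D := X ⊓ X.map (MulAut.conj u).toMonoidHom with hD
  have hDodd : Odd (Nat.card D) := hSE.2.2 u huX
  have hDX : ∀ d : D, (d : G) ∈ X := fun d => d.2.1
  have hDS : ∀ d : D, ∀ s : (S : Subgroup G), (d : G) * s * (d : G)⁻¹ ∈ (S : Subgroup G) := fun d s =>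
    (Subgroup.mem_normalizer_iff.1 (hDX d) s).1 s.2
  -- the cocycle
  classical
  letI : CommGroup (S : Subgroup G) :=
    { (inferInstance : Group (S : Subgroup G)) with
      mul_comm := fun a b => Subtype.ext (hab S a a.2 b b.2) }
  let φ : D → ((S : Subgroup G) →* (S : Subgroup G)) := fun d =>
    { toFun := fun s => ⟨(d : G) * s * (d : G)⁻¹, hDS d s⟩
      map_one' := Subtype.ext (by simp)
      map_mul' := fun a b => Subtype.ext (by
        show (d : G) * ((a : G) * b) * (d : G)⁻¹ = (d : G) * a * (d : G)⁻¹ * ((d : G) * b * (d : G)⁻¹)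
        group) }
  have huniq : ∀ (a b : (S : Subgroup G)) (g : G), (a : G)⁻¹ * g ∈ H → (b : G)⁻¹ * g ∈ H → a = b := by
    intro a b g ha hb
    have : (b : G)⁻¹ * a ∈ H := by
      have := mul_mem hb (inv_mem ha)
      simpa [mul_assoc] using this
    exact Subtype.ext (inv_mul_eq_one.1 (hdisj _ this (mul_mem (inv_mem b.2) a.2))).symm
  let c : D → (S : Subgroup G) := fun d => (hSH d).choose
  have hc : ∀ d : D, ((c d : (S : Subgroup G)) : G)⁻¹ * d ∈ H := fun d => (hSH d).choose_spec
  -- `d` maps the coset of `s` to the coset of `φ d s * c d`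
  have hact : ∀ (d : D) (s : (S : Subgroup G)) (h : G), h ∈ H →
      ((φ d s * c d : (S : Subgroup G)) : G)⁻¹ * ((d : G) * s * h) ∈ H := by
    intro d s h hh
    have e : ((φ d s * c d : (S : Subgroup G)) : G)⁻¹ * ((d : G) * s * h) =
        (((c d : (S : Subgroup G)) : G)⁻¹ * d) * h := by
      show (((d : G) * s * (d : G)⁻¹) * (c d : G))⁻¹ * ((d : G) * s * h) = _
      group
    rw [e]
    exact mul_mem (hc d) hh
  have hcocycle : ∀ d d' : D, c (d * d') = φ d (c d') * c d := by
    intro d d'
    refine huniq _ _ ((d : G) * d') (hc (d * d')) ?_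
    have := hact d (c d') _ (hc d')
    convert this using 2
    group
  haveI : Fintype D := Fintype.ofFinite D
  set m := Nat.card D with hm
  have hmS : (Nat.card (S : Subgroup G)).Coprime m := by
    rw [hScard]; exact (Nat.coprime_two_left.2 hDodd).pow_left e
  set P : (S : Subgroup G) := ∏ d : D, c d with hP
  obtain ⟨s₀, hs₀⟩ : ∃ s₀ : (S : Subgroup G), s₀ ^ m = P := ⟨(powCoprime hmS).symm P,
    (powCoprime hmS).apply_symm_apply P⟩
  have hfix : ∀ d : D, φ d s₀ * c d = s₀ := by
    intro d
    apply (powCoprime hmS).injective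
    show (φ d s₀ * c d) ^ m = s₀ ^ m
    rw [mul_pow, ← map_pow, hs₀]
    calc φ d P * c d ^ m = ∏ d' : D, φ d (c d') * c d := by
          rw [Finset.prod_mul_distrib, hP, map_prod, Finset.prod_const, Finset.card_univ, hm,
            Nat.card_eq_fintype_card]
      _ = ∏ d' : D, c (d * d') := Finset.prod_congr rfl fun d' _ => (hcocycle d d').symm
      _ = P := by
          rw [hP]
          exact Fintype.prod_equiv (Equiv.mulLeft d) _ _ fun _ => rfl
  have hdH : ∀ d : D, (s₀ : G)⁻¹ * ((d : G) * s₀) ∈ H := fun d => by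
    have := hact d s₀ 1 H.one_mem
    rwa [hfix d, mul_one] at this
  -- `u` moves the fixed coset to a fixed coset
  obtain ⟨s₁, hs₁⟩ := hSH (u * s₀)
  have huu : u * u = 1 := CfsgLib.Involutions.mul_self_eq_one_of_orderOf huo
  have hui : u⁻¹ = u := CfsgLib.Involutions.inv_eq_self_of_orderOf huo
  have hfix₁ : ∀ d : D, φ d s₁ * c d = s₁ := by
    intro d
    obtain ⟨hd1, x, hx, hxd⟩ := d.2
    have hxd' : u * x * u⁻¹ = (d : G) := hxd
    have hx' : u⁻¹ * (d : G) * u ∈ D := by
      refine ⟨?_, (d : G), hd1, ?_⟩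
      · rw [← hxd']; simpa [mul_assoc] using hx
      · show u * (d : G) * u⁻¹ = u⁻¹ * (d : G) * u
        rw [hui]
    have h1 := hdH ⟨_, hx'⟩
    have h2 := hact d s₁ _ hs₁
    refine huniq _ _ ((d : G) * (u * s₀)) ?_ ?_
    · convert h2 using 2
      group
    · have := mul_mem hs₁ h1
      convert this using 1
      show (s₁ : G)⁻¹ * ((d : G) * (u * s₀)) = _
      group
  by_cases hv : s₁ = s₀
  · -- `u` fixes the coset
    rw [hv] at hs₁
    have ho : orderOf ((s₀ : G)⁻¹ * (u * s₀)) = 2 := by
      have := CfsgLib.Involutions.orderOf_conj (s₀ : G)⁻¹ u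
      rw [inv_inv] at this
      rw [← mul_assoc, this, huo]
    have := Subgroup.orderOf_dvd_natCard _ hs₁
    rw [ho] at this
    exact (Nat.not_even_iff_odd.2 hH) (even_iff_two_dvd.2 this)
  -- otherwise `D` centralises an involution of `S`
  set v := s₀⁻¹ * s₁ with hvdef
  have hvfix : ∀ d : D, φ d v = v := fun d => by
    have h1 := hfix d
    have h2 := hfix₁ d
    rw [hvdef, map_mul, map_inv, eq_mul_inv_of_mul_eq h1, eq_mul_inv_of_mul_eq h2, mul_inv,
      inv_inv, mul_mul_mul_comm, mul_inv_cancel, mul_one]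
  have hv1 : v ≠ 1 := fun h => hv (inv_mul_eq_one.1 h).symm
  obtain ⟨k, hk⟩ := IsPGroup.iff_orderOf.1 S.2 v
  have hk0 : k ≠ 0 := fun h => hv1 (orderOf_eq_one_iff.1 (by rw [hk, h, pow_zero]))
  set z : (S : Subgroup G) := v ^ 2 ^ (k - 1) with hzdef
  have hzo : orderOf (z : G) = 2 := by
    rw [Subgroup.orderOf_coe, hzdef, orderOf_pow_of_dvd (by positivity)
      (by rw [hk]; exact pow_dvd_pow 2 (by omega)), hk, Nat.pow_div (by omega) (by norm_num),
      show k - (k - 1) = 1 by omega, pow_one]
  have hzfix : ∀ d : D, φ d z = z := fun d => by rw [hzdef, map_pow, hvfix d]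
  have hone : ∀ w ∈ (S : Subgroup G), orderOf w = 2 → w = (z : G) := by
    intro w hw hwo
    obtain ⟨⟨d, hd, hdw⟩, -⟩ := Cfsg.Agent.S1225.result X hSE u huo huX (z : G) w hzo
      (hSX z.2) hwo (hSX hw)
    rw [← hdw]
    exact congrArg Subtype.val (hzfix ⟨d, hd⟩)
  haveI hcyc : IsCyclic (S : Subgroup G) :=
    isCyclic_of_unique_involution S.2 (hab S) hone
  have hmin : (Nat.card G).minFac = 2 := (Nat.minFac_eq_two_iff _).2 heven.two_dvd
  have hN := IsCyclic.normalizer_le_centralizer (P := S) hmin hcyc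
  have hK := MonoidHom.ker_transferSylow_isComplement' S hN
  rcases (inferInstance : (MonoidHom.transferSylow S hN).ker.Normal).eq_bot_or_eq_top with h | h
  · rw [h] at hK
    exact hSne (Subgroup.isComplement'_bot_left.1 hK)
  · rw [h] at hK
    exact hS1 (Subgroup.isComplement'_top_left.1 hK)

/-- Abelian Sylow `2`-subgroups and an odd subgroup of `2`-power index force solvability. -/
theorem isSolvable_of_odd_twoPower_index : ∀ (n : ℕ) (G : Type u) [Group G] [Finite G],
    Nat.card G = n → TwoAb G → ∀ H : Subgroup G, Odd (Nat.card H) →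
      (∃ e : ℕ, H.index = 2 ^ e) → Group.IsSolvable G := by
  intro n
  induction n using Nat.strong_induction_on with
  | _ n ih =>
  intro G _ _ hn hab H hH hidx
  obtain ⟨e, he⟩ := hidx
  subst hn
  by_contra hns
  have hsimple : ∀ N : Subgroup G, N.Normal → N = ⊥ ∨ N = ⊤ := by
    intro N hN
    by_contra hne
    push Not at hne
    haveI : Group.IsSolvable N := by
      refine ih _ ?_ N rfl (hab.subgroup N) (H.subgroupOf N) ?_ ?_
      · exact lt_of_le_of_ne (Subgroup.card_le_card_group N)
          fun h => hne.2 (Subgroup.eq_top_of_card_eq N h)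
      · refine hH.of_dvd_nat (Subgroup.card_dvd_of_injective
          (⟨⟨fun x => ⟨((x : N) : G), x.2⟩, rfl⟩, fun a b => rfl⟩ : H.subgroupOf N →* H) ?_)
        exact fun a b h => Subtype.ext (Subtype.ext (congrArg (fun x : H => (x : G)) h :))
      · obtain ⟨k, -, hk⟩ := (Nat.dvd_prime_pow Nat.prime_two).1
          (he ▸ (show H.relIndex N ∣ H.index from by
            obtain ⟨k, hk⟩ : N.relIndex H ∣ N.index := Subgroup.relIndex_dvd_index_of_normal N H
            have h1 := Subgroup.relIndex_mul_index (inf_le_left : H ⊓ N ≤ H)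
            have h2 := Subgroup.relIndex_mul_index (inf_le_right : H ⊓ N ≤ N)
            rw [Subgroup.inf_relIndex_left] at h1
            rw [Subgroup.inf_relIndex_right, ← h1, hk] at h2
            have hne' : N.relIndex H ≠ 0 := Subgroup.index_ne_zero_of_finite
            refine ⟨k, (mul_left_cancel₀ hne' ?_).symm⟩
            rw [← h2]; ring))
        exact ⟨k, hk⟩
    haveI : Group.IsSolvable (G ⧸ N) := by
      refine ih _ ?_ (G ⧸ N) rfl (hab.of_surjective _ (QuotientGroup.mk'_surjective N))
        (H.map (QuotientGroup.mk' N)) (hH.of_dvd_nat (Subgroup.card_map_dvd _ _)) ?_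
      · rw [Subgroup.card_eq_card_quotient_mul_card_subgroup N]
        exact lt_mul_of_one_lt_right Nat.card_pos ((Subgroup.one_lt_card_iff_ne_bot N).2 hne.1)
      · obtain ⟨k, -, hk⟩ := (Nat.dvd_prime_pow Nat.prime_two).1
          (he ▸ Subgroup.index_map_dvd H (QuotientGroup.mk'_surjective N))
        exact ⟨k, hk⟩
    exact hns ((Group.isSolvable_iff_subgroup_quotient N).2 ⟨inferInstance, inferInstance⟩)
  haveI : Nontrivial G := not_subsingleton_iff_nontrivial.1 fun h => hns inferInstance
  haveI : IsSimpleGroup G := ⟨hsimple⟩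
  refine no_simple hab hns H hH he fun C hC habC K hK hKi => ?_
  exact ih _ (lt_of_le_of_ne (Subgroup.card_le_card_group C)
    fun h => hC (Subgroup.eq_top_of_card_eq C h)) C rfl habC K hK hKi

/-- Abelian Sylow `2`-subgroups and a solvable subgroup of `2`-power index force solvability. -/
theorem isSolvable_of_solvable_twoPower_index (hab : TwoAb G) (E : Subgroup G)
    (hE : Group.IsSolvable E) (hidx : ∃ e : ℕ, E.index = 2 ^ e) : Group.IsSolvable G := by
  obtain ⟨e, he⟩ := hidx
  obtain ⟨a, m, hm, hEm⟩ := Nat.exists_eq_two_pow_mul_odd (n := Nat.card E) Nat.card_pos.ne'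
  obtain ⟨⟨H, hHc⟩, -⟩ := CfsgLib.hall_main (G := E) (m := m) (n := 2 ^ a)
    (by rw [hEm, mul_comm]) ((Nat.coprime_two_right.2 hm).pow_right a)
  have hHc' : Nat.card (H.map E.subtype) = m := by
    rw [Subgroup.card_map_of_injective E.subtype_injective, hHc]
  refine isSolvable_of_odd_twoPower_index _ G rfl hab (H.map E.subtype) (hHc'.symm ▸ hm)
    ⟨a + e, ?_⟩
  apply mul_left_cancel₀ (a := m) (by obtain ⟨k, rfl⟩ := hm; omega)
  have h1 := (H.map E.subtype).card_mul_index
  have h2 := E.card_mul_index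
  rw [hHc'] at h1
  rw [h1, ← h2, hEm, he, pow_add]
  ring

end CfsgLib.AbTwoCompl
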