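import Cfsg.Agent.Lib.AbelianTwoComplement.Main
import Cfsg.Agent.S0199
import Cfsg.Agent.Lib.Blocks.Orth
import Cfsg.Agent.Lib.Components

/-!
# Real elements of odd prime power order outside the solvable radical
-/

namespace CfsgLib.AbTwoCompl

open Cfsg
open scoped Pointwise

set_option linter.unusedVariables false
set_option linter.unusedSectionVars false
set_option linter.style.haveILetI false

universe u v

variable {G : Type u} [Group G]

/-- Averaging inside an abelian group gives an element fixed by `s`. -/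
theorem exists_fixed {H : Type v} [Group H] (f : G →* H) (P : Subgroup G)
    (hP : ∀ a ∈ P, ∀ b ∈ P, a * b = b * a) :
    ∀ (e : ℕ) (s : G), (∀ a ∈ P, s * a * s⁻¹ ∈ P) → ∀ v ∈ P, Commute (s ^ 2 ^ e) v →
      Commute (f s) (f v) → ∃ k ∈ P, Commute s k ∧ f k = f v ^ 2 ^ e := by
  intro e
  induction e with
  | zero =>
    intro s _ v hv hc _
    exact ⟨v, hv, by simpa using hc, by simp⟩
  | succ e ih =>
    intro s hs v hv hc hfc
    obtain ⟨k, hk, hkc, hfk⟩ := ih (s ^ 2)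
      (fun a ha => by have := hs _ (hs a ha); simpa [pow_two, mul_assoc] using this) v hv
      (by rwa [← pow_mul, mul_comm 2, ← pow_succ])
      (by rw [map_pow]; exact hfc.pow_left 2)
    refine ⟨k * (s * k * s⁻¹), mul_mem hk (hs k hk), ?_, ?_⟩
    · have h2 : s * (s * k * s⁻¹) * s⁻¹ = k := by
        calc s * (s * k * s⁻¹) * s⁻¹ = s ^ 2 * k * (s ^ 2)⁻¹ := by rw [pow_two]; group
          _ = k := by rw [hkc.eq, mul_inv_cancel_right]
      have h3 : s * (k * (s * k * s⁻¹)) * s⁻¹ = k * (s * k * s⁻¹) := by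
        rw [show s * (k * (s * k * s⁻¹)) * s⁻¹ = (s * k * s⁻¹) * (s * (s * k * s⁻¹) * s⁻¹) by group,
          h2, hP _ (hs k hk) _ hk]
      exact mul_inv_eq_iff_eq_mul.1 h3
    · have h4 : f (s * k * s⁻¹) = f k := by
        rw [map_mul, map_mul, map_inv, hfk, (hfc.pow_right (2 ^ e)).eq, mul_inv_cancel_right]
      rw [map_mul, h4, hfk, ← pow_add, pow_succ, mul_two]

/-- An element inverted modulo a kernel lifts to an element inverted by `s`. -/
theorem exists_inverted {H : Type v} [Group H] (f : G →* H) (P : Subgroup G)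
    (hP : ∀ a ∈ P, ∀ b ∈ P, a * b = b * a) (e : ℕ) (s : G) (hs : ∀ a ∈ P, s * a * s⁻¹ ∈ P)
    (he : s ^ 2 ^ e = 1) (v : G) (hv : v ∈ P) (hfv : f s * f v * (f s)⁻¹ = (f v)⁻¹) :
    ∃ k ∈ P, s * k * s⁻¹ = k⁻¹ ∧ f k = f v ^ 2 ^ (e + 1) := by
  have hss : Commute (f (s ^ 2)) (f v) := by
    refine mul_inv_eq_iff_eq_mul.1 ?_
    rw [map_pow, show f s ^ 2 * f v * (f s ^ 2)⁻¹ = f s * (f s * f v * (f s)⁻¹) * (f s)⁻¹ by rw [pow_two]; group,
      hfv, show f s * (f v)⁻¹ * (f s)⁻¹ = (f s * f v * (f s)⁻¹)⁻¹ by group, hfv, inv_inv]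
  obtain ⟨k, hk, hkc, hfk⟩ := exists_fixed f P hP e (s ^ 2)
    (fun a ha => by have := hs _ (hs a ha); simpa [pow_two, mul_assoc] using this) v hv
    (by rw [← pow_mul, mul_comm, pow_mul, he, one_pow]; exact Commute.one_left v) hss
  refine ⟨k * (s * k * s⁻¹)⁻¹, mul_mem hk (inv_mem (hs k hk)), ?_, ?_⟩
  · have h2 : s * (s * k * s⁻¹) * s⁻¹ = k := by
      calc s * (s * k * s⁻¹) * s⁻¹ = s ^ 2 * k * (s ^ 2)⁻¹ := by rw [pow_two]; group
        _ = k := by rw [hkc.eq, mul_inv_cancel_right]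
    rw [show s * (k * (s * k * s⁻¹)⁻¹) * s⁻¹ = (s * k * s⁻¹) * (s * (s * k * s⁻¹) * s⁻¹)⁻¹ by group,
      h2, mul_inv_rev, inv_inv]
  · have h4 : f (s * k * s⁻¹) = (f k)⁻¹ := by
      rw [map_mul, map_mul, map_inv, hfk,
        show f s * f v ^ 2 ^ e * (f s)⁻¹ = (f s * f v * (f s)⁻¹) ^ 2 ^ e from conj_pow.symm, hfv, inv_pow]
    rw [map_mul, map_inv, h4, inv_inv, hfk, ← pow_add, pow_succ, mul_two]

variable [Finite G]

/-- In a non-solvable group with abelian Sylow subgroups some element of odd prime power order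
outside the solvable radical is inverted by a `2`-element. -/
theorem exists_real (hA : ∀ (p : ℕ) [Fact p.Prime] (P : Sylow p G), ∀ a ∈ P, ∀ b ∈ P, a * b = b * a)
    (hns : ¬ Group.IsSolvable G) :
    ∃ (p : ℕ) (k s : G), p.Prime ∧ p ≠ 2 ∧ (∃ n : ℕ, orderOf k = p ^ n) ∧ k ∉ solvableRadical G ∧
      (∃ n : ℕ, orderOf s = 2 ^ n) ∧ s * k * s⁻¹ = k⁻¹ := by
  haveI : Fact (Nat.Prime 2) := ⟨Nat.prime_two⟩
  set R := solvableRadical G with hR
  haveI : Group.IsSolvable R := CfsgLib.isSolvable_solvableRadical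
  haveI : R.Normal := CfsgLib.solvableRadical_normal
  set f := QuotientGroup.mk' R with hfdef
  have hker : ∀ x : G, f x = 1 ↔ x ∈ R := fun x => QuotientGroup.eq_one_iff x
  have hQns : ¬ Group.IsSolvable (G ⧸ R) := fun h =>
    hns ((Group.isSolvable_iff_subgroup_quotient R).2 ⟨inferInstance, h⟩)
  have heven : 2 ∣ Nat.card (G ⧸ R) := even_iff_two_dvd.1
    (Nat.not_odd_iff_even.1 fun h => hQns (Cfsg.Agent.S0205.result h))
  obtain ⟨t, hto⟩ := exists_prime_orderOf_dvd_card' 2 heven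
  have htt : t * t = 1 := CfsgLib.Involutions.mul_self_eq_one_of_orderOf hto
  -- Baer–Suzuki
  obtain ⟨g, hg⟩ : ∃ g : G ⧸ R, ¬ IsPGroup 2
      ↥(Subgroup.zpowers t ⊔ (Subgroup.zpowers t).map (MulAut.conj g).toMonoidHom) := by
    by_contra hcon
    push Not at hcon
    have htp : IsPGroup 2 (Subgroup.zpowers t) :=
      IsPGroup.of_card (n := 1) (by rw [Nat.card_zpowers, hto, pow_one])
    obtain ⟨N, hNn, hNp, hNt⟩ := Cfsg.Agent.S0199.result (p := 2) (Subgroup.zpowers t) htp hcon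
    haveI := hNp.isNilpotent
    haveI := hNn
    have hle : N.comap f ≤ R := by
      refine CfsgLib.le_solvableRadical ?_
      let f' : N.comap f →* N := (f.comp (N.comap f).subtype).codRestrict N fun x => x.2
      haveI : Group.IsSolvable f'.ker := by
        refine Group.isSolvable_of_isSolvable_injective
          (f := (⟨⟨fun x => ⟨((x : N.comap f) : G), (hker _).1 (congrArg Subtype.val x.2 :)⟩, rfl⟩,
            fun a b => rfl⟩ : f'.ker →* R)) fun a b h => ?_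
        exact Subtype.ext (Subtype.ext (congrArg (fun x : R => (x : G)) h :))
      exact Group.isSolvable_of_ker_le_range (f := f'.ker.subtype) (g := f') (by rw [Subgroup.range_subtype])
    obtain ⟨x, rfl⟩ := QuotientGroup.mk'_surjective R t
    have := (hker x).2 (hle (hNt (Subgroup.mem_zpowers (f x))))
    rw [hfdef] at this
    rw [this, orderOf_one] at hto
    omega
  set t' := g * t * g⁻¹ with ht'
  have htt' : t' * t' = 1 := by
    rw [ht', show g * t * g⁻¹ * (g * t * g⁻¹) = g * (t * t) * g⁻¹ by group, htt, mul_one,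
      mul_inv_cancel]
  set u := t * t' with hu
  obtain ⟨p, hp, hp2, hpd⟩ : ∃ p : ℕ, p.Prime ∧ p ≠ 2 ∧ p ∣ orderOf u := by
    by_contra hcon
    push Not at hcon
    apply hg
    obtain ⟨j, hj⟩ : ∃ j, orderOf u = 2 ^ j := ⟨_, Nat.eq_prime_pow_of_unique_prime_dvd
      (orderOf_pos u).ne' fun {q} hq hqd => by
        by_contra hne
        exact hcon q hq hne hqd⟩
    rintro ⟨y, hy⟩
    have hy' : y ∈ Subgroup.closure ({t, t'} : Set (G ⧸ R)) := by
      refine (sup_le ?_ ?_ : _ ≤ Subgroup.closure ({t, t'} : Set (G ⧸ R))) hy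
      · exact Subgroup.zpowers_le.2 (Subgroup.subset_closure (Set.mem_insert _ _))
      · rw [MonoidHom.map_zpowers, Subgroup.zpowers_le]
        exact Subgroup.subset_closure (Or.inr rfl)
    refine ⟨j + 1, Subtype.ext ?_⟩
    show y ^ 2 ^ (j + 1) = 1
    obtain ⟨i, h | h⟩ := CfsgLib.Involutions.mem_closure_pair htt htt' hy'
    · rw [h, ← hu, ← zpow_natCast, ← zpow_mul, mul_comm, zpow_mul, zpow_natCast,
        pow_succ, pow_mul, ← hj, pow_orderOf_eq_one, one_pow, one_zpow]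
    · have hyy : y * y = 1 := by
        rw [h, show t * (t * t') ^ i * (t * (t * t') ^ i) = t * (t * t') ^ i * t⁻¹ * (t * t') ^ i by
          rw [show t⁻¹ = t from inv_eq_of_mul_eq_one_right htt]; group,
          CfsgLib.Involutions.conj_zpow_eq_inv htt htt' i, ← zpow_add, neg_add_cancel, zpow_zero]
      rw [pow_succ', pow_mul, pow_two, hyy, one_pow]
  haveI := Fact.mk hp
  set v := u ^ (orderOf u / p) with hv
  have hvo : orderOf v = p := by
    rw [hv, orderOf_pow_orderOf_div (orderOf_pos u).ne' hpd]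
  have hvinv : t * v * t⁻¹ = v⁻¹ := by
    rw [hv, ← zpow_natCast, CfsgLib.Involutions.conj_zpow_eq_inv htt htt', zpow_neg]
  -- lift to `G`
  obtain ⟨x, rfl⟩ := QuotientGroup.mk'_surjective R t
  set M := (Subgroup.zpowers v).comap f with hM
  have hxM : ∀ m ∈ M, x * m * x⁻¹ ∈ M := by
    intro m hm
    obtain ⟨i, hi⟩ := hm
    show f (x * m * x⁻¹) ∈ Subgroup.zpowers v
    rw [map_mul, map_mul, map_inv, show f m = v ^ i from hi.symm]
    refine ⟨-i, ?_⟩
    show v ^ (-i) = _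
    rw [← conj_zpow, hvinv, inv_zpow, zpow_neg]
  let P0 : Sylow p M := default
  set P : Subgroup G := (P0 : Subgroup M).map M.subtype with hPdef
  have hPM : P ≤ M := Subgroup.map_subtype_le _
  have hPp : IsPGroup p P := P0.2.map _
  have hPc : ∀ a ∈ P, ∀ b ∈ P, a * b = b * a := by
    obtain ⟨Q, hQ⟩ := hPp.exists_le_sylow
    exact fun a ha b hb => hA p Q a (hQ ha) b (hQ hb)
  let fM : M →* Subgroup.zpowers v := (f.comp M.subtype).codRestrict _ fun m => m.2
  have hfM : Function.Surjective fM := by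
    rintro ⟨y, hy⟩
    obtain ⟨m, rfl⟩ := QuotientGroup.mk'_surjective R y
    exact ⟨⟨m, hy⟩, rfl⟩
  obtain ⟨v₀, hv₀, hv₀v⟩ : ∃ v₀ ∈ P, f v₀ = v := by
    have hVp : IsPGroup p (Subgroup.zpowers v) :=
      IsPGroup.of_card (n := 1) (by rw [Nat.card_zpowers, hvo, pow_one])
    have htop : ((P0.mapSurjective hfM : Sylow p _) : Subgroup (Subgroup.zpowers v)) = ⊤ :=
      ((P0.mapSurjective hfM).is_maximal' (hVp.of_equiv Subgroup.topEquiv.symm) le_top).symm
    have hm : (⟨v, Subgroup.mem_zpowers v⟩ : Subgroup.zpowers v) ∈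
        ((P0.mapSurjective hfM : Sylow p _) : Subgroup (Subgroup.zpowers v)) := htop ▸ Subgroup.mem_top _
    rw [Sylow.coe_mapSurjective] at hm
    obtain ⟨m, hm1, hm2⟩ := hm
    exact ⟨(m : G), ⟨m, hm1, rfl⟩, congrArg Subtype.val hm2⟩
  -- Frattini
  let φ : MulAut M :=
    { toFun := fun m => ⟨x * m * x⁻¹, hxM m m.2⟩
      invFun := fun m => ⟨x⁻¹ * m * x, by
        have h2 : f x⁻¹ = f x := by
          rw [map_inv]; exact inv_eq_of_mul_eq_one_right htt
        obtain ⟨i, hi⟩ := m.2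
        show f (x⁻¹ * m * x) ∈ Subgroup.zpowers v
        rw [map_mul, map_mul, h2, show f (m : G) = v ^ i from hi.symm]
        refine ⟨-i, ?_⟩
        show v ^ (-i) = _
        have hxi : (f x)⁻¹ = f x := inv_eq_of_mul_eq_one_right htt
        calc v ^ (-i) = f x * v ^ i * (f x)⁻¹ := by rw [← conj_zpow, hvinv, inv_zpow, zpow_neg]
          _ = _ := by rw [hxi]⟩
      left_inv := fun m => Subtype.ext (by group)
      right_inv := fun m => Subtype.ext (by group)
      map_mul' := fun a b => Subtype.ext (by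
        show x * ((a : G) * b) * x⁻¹ = x * a * x⁻¹ * (x * b * x⁻¹)
        group) }
  obtain ⟨m, hm⟩ := MulAction.exists_smul_eq M (φ • P0) P0
  set s₁ := (m : G) * x with hs₁
  have hs₁P : ∀ a ∈ P, s₁ * a * s₁⁻¹ ∈ P := by
    rintro _ ⟨a, ha, rfl⟩
    refine ⟨m * φ a * m⁻¹, ?_, ?_⟩
    · rw [← hm]
      show m * φ a * m⁻¹ ∈ (((m • (φ • P0) : Sylow p M)) : Subgroup M)
      rw [Sylow.coe_subgroup_smul, Sylow.pointwise_smul_def]
      exact Subgroup.smul_mem_pointwise_smul _ (MulAut.conj m) _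
        (Subgroup.smul_mem_pointwise_smul _ φ _ ha)
    · show (m : G) * (x * a * x⁻¹) * (m : G)⁻¹ = m * x * a * (m * x)⁻¹
      group
  obtain ⟨i, hi⟩ := m.2
  have hfs₁ : f s₁ = v ^ i * f x := by rw [hs₁, map_mul, show f (m : G) = v ^ i from hi.symm]
  have hxi : (f x)⁻¹ = f x := inv_eq_of_mul_eq_one_right htt
  have hinv1 : f s₁ * v * (f s₁)⁻¹ = v⁻¹ := by
    rw [hfs₁, show v ^ i * f x * v * (v ^ i * f x)⁻¹ = v ^ i * (f x * v * (f x)⁻¹) * (v ^ i)⁻¹ by group,
      hvinv]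
    group
  have hsq : f s₁ * f s₁ = 1 := by
    rw [hfs₁, show v ^ i * f x * (v ^ i * f x) = v ^ i * (f x * v ^ i * (f x)⁻¹) by rw [hxi]; group,
      ← conj_zpow, hvinv, inv_zpow, mul_inv_cancel]
  obtain ⟨s, s', hss, hsc, ⟨e, he⟩, hs'o, hsz, hs'z⟩ := CfsgLib.Blocks.exists_pPart Nat.prime_two s₁
  have hsP : ∀ a ∈ P, s * a * s⁻¹ ∈ P := by
    obtain ⟨n, hn⟩ := mem_powers_iff_mem_zpowers.2 hsz
    have hn' : s₁ ^ n = s := hn
    rw [← hn']
    clear hn hn'
    induction n with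
    | zero => intro a ha; simpa using ha
    | succ n ihn =>
      intro a ha
      rw [pow_succ', show s₁ * s₁ ^ n * a * (s₁ * s₁ ^ n)⁻¹ = s₁ * (s₁ ^ n * a * (s₁ ^ n)⁻¹) * s₁⁻¹ by
        group]
      exact hs₁P _ (ihn a ha)
  have hfs' : f s' = 1 := by
    obtain ⟨n, hn⟩ := hs'z
    have hn' : s₁ ^ n = s' := hn
    rw [← orderOf_eq_one_iff]
    have h1 : orderOf (f s') ∣ 2 := orderOf_dvd_of_pow_eq_one (by
      rw [← hn', map_zpow, ← zpow_natCast, ← zpow_mul, mul_comm, zpow_mul, zpow_natCast, pow_two, hsq,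
        one_zpow])
    rcases (Nat.dvd_prime Nat.prime_two).1 h1 with h | h
    · exact h
    · exact absurd (h ▸ orderOf_map_dvd f s') hs'o
  have hfs : f s = f s₁ := by rw [← hss, map_mul, hfs', mul_one]
  obtain ⟨k, hkP, hkinv, hfk⟩ := exists_inverted f P hPc e s hsP (by rw [← he, pow_orderOf_eq_one]) v₀ hv₀
    (by rw [hv₀v, hfs, hinv1])
  refine ⟨p, k, s, hp, hp2, ?_, ?_, ⟨e, he⟩, hkinv⟩
  · obtain ⟨n, hn⟩ := IsPGroup.iff_orderOf.1 hPp ⟨k, hkP⟩
    exact ⟨n, by rwa [Subgroup.orderOf_mk] at hn⟩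
  · intro hkR
    have h1 : v ^ 2 ^ (e + 1) = 1 := by rw [← hv₀v, ← hfk]; exact (hker k).2 hkR
    have h2 : p ∣ 2 ^ (e + 1) := hvo ▸ orderOf_dvd_of_pow_eq_one h1
    exact hp2 ((Nat.prime_dvd_prime_iff_eq hp Nat.prime_two).1 (hp.dvd_of_dvd_pow h2))

end CfsgLib.AbTwoCompl
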